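import Groth.Agent.L04.Cartier.Deriv
import Groth.Agent.L15.Frob.PBasisSmooth
import Mathlib.RingTheory.Kaehler.Polynomial
import Mathlib.RingTheory.Etale.Kaehler
import Mathlib.FieldTheory.Perfect

/-!
Coordinates with a p-basis on standard smooth algebras over perfect rings.
-/

set_option autoImplicit false
set_option linter.style.haveILetI false
set_option backward.isDefEq.respectTransparency false
set_option backward.isDefEq.respectTransparency.types false

universe u

open TensorProduct FrobAlg KaehlerDifferential Groth.L15.Frob

noncomputable section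

namespace Groth.L04.Cartier

theorem bijective_tmul_one (p : ℕ) [Fact p.Prime] (A B : Type u) [CommRing A] [CharP A p] [PerfectRing A p]
    [CommRing B] [Algebra A B] : Function.Bijective fun b : B => (b ⊗ₜ[A] (1 : Twist p A) : BaseChange p A B) := by
  have hb : Function.Bijective (Algebra.ofId A (Twist p A)) := (toTwist p A).bijective.comp (bijective_frobenius A p)
  let e := (Algebra.TensorProduct.rid A A B).symm.trans
    (Algebra.TensorProduct.congr AlgEquiv.refl (AlgEquiv.ofBijective (Algebra.ofId A (Twist p A)) hb))
  have : (fun b : B => (b ⊗ₜ[A] (1 : Twist p A) : BaseChange p A B)) = e := by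
    funext b
    simp [e]
  rw [this]
  exact e.bijective

theorem nonempty_pCoord (p : ℕ) [Fact p.Prime] (A R : Type u) [CommRing A] [CharP A p] [PerfectRing A p]
    [CommRing R] [Algebra A R] [CharP R p] [Algebra.IsStandardSmooth A R] : Nonempty (PCoord A R p) := by
  classical
  obtain ⟨n, hn⟩ := exists_relativeDimension A R
  obtain ⟨g, hg⟩ := Algebra.IsStandardSmoothOfRelativeDimension.exists_etale_mvPolynomial n A R
  letI := g.toRingHom.toAlgebra
  haveI : IsScalarTower A (MvPolynomial (Fin n) A) R :=
    IsScalarTower.of_algebraMap_eq fun a => (g.commutes a).symm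
  haveI : Algebra.Etale (MvPolynomial (Fin n) A) R := hg
  let y : Fin n → R := fun i => g (MvPolynomial.X i)
  have hB : HasBasis (relFrob p A R) (monom p y) := by
    refine HasBasis.congr_family (hasBasis_relFrob_of_etale p A (MvPolynomial (Fin n) A) R
      (hasBasis_relFrob_mvPolynomial p A n)) fun r => ?_
    rw [Function.comp_apply, map_monom]
    rfl
  let b : Module.Basis (Fin n) R Ω[R⁄A] :=
    ((mvPolynomialBasis A (Fin n)).baseChange R).map
      (tensorKaehlerEquivOfFormallyEtale A (MvPolynomial (Fin n) A) R)
  have hc := bijective_tmul_one p A R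
  have hrel : ∀ x : R, relFrob p A R (x ⊗ₜ[A] (1 : Twist p A)) = x ^ p := fun x => by simp [relFrob_tmul]
  refine ⟨{ n := n, y := y, basis := b, basis_eq := fun i => ?_, exists_expand := fun f => ?_,
            eq_zero_of_expand := fun gs hgs => ?_ }⟩
  · rw [Module.Basis.map_apply, Module.Basis.baseChange_apply, tensorKaehlerEquivOfFormallyEtale_apply,
      mvPolynomialBasis_apply, mapBaseChange_tmul, one_smul, map_D]
    rfl
  · obtain ⟨w, hw⟩ := hB.2 f
    choose gs hgs using fun α => hc.2 (w α)
    refine ⟨gs, hw.symm.trans (Finset.sum_congr rfl fun α _ => ?_)⟩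
    rw [← hgs α, hrel]
    rfl
  · have h := hB.1 (a₁ := fun α => gs α ⊗ₜ[A] (1 : Twist p A)) (a₂ := 0) (by
      simp only [hrel, Pi.zero_apply, map_zero, zero_mul, Finset.sum_const_zero]
      exact hgs)
    funext α
    exact hc.1 ((congrFun h α).trans (TensorProduct.zero_tmul R (1 : Twist p A)).symm)

end Groth.L04.Cartier
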