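import Mathlib.RingTheory.Derivation.Lie
import Mathlib.RingTheory.Kaehler.Basic
import Mathlib.LinearAlgebra.Basis.Basic
import Mathlib.Algebra.CharP.Lemmas
import Mathlib.Algebra.CharP.CharAndCard
import Mathlib.Data.Nat.Factorial.BigOperators
import Mathlib.RingTheory.Ideal.Maps
import Mathlib.FieldTheory.Finite.Basic
import Mathlib.NumberTheory.Wilson
import Mathlib.Data.Nat.Prime.Factorial

/-!
Closed one forms in coordinates with a p-basis.
-/

set_option autoImplicit false
set_option linter.style.haveILetI false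
set_option linter.unusedSectionVars false

universe u

open KaehlerDifferential

noncomputable section

namespace Groth.L04.Cartier

variable {A R : Type u} [CommRing A] [CommRing R] [Algebra A R]

theorem iterate_der_mul (E : Derivation A R R) {c : R} (hc : E c = 0) (m : ℕ) (x : R) :
    E^[m] (c * x) = c * E^[m] x := by
  induction m generalizing x with
  | zero => rfl
  | succ m ih =>
    rw [Function.iterate_succ_apply', Function.iterate_succ_apply', ih, Derivation.leibniz, smul_eq_mul,
      smul_eq_mul, hc, mul_zero, add_zero]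

theorem iterate_der_pow (E : Derivation A R R) {y : R} (hy : E y = 1) (a : ℕ) :
    ∀ m : ℕ, E^[m] (y ^ a) = (a.descFactorial m : R) * y ^ (a - m) := fun m => by
  induction m with
  | zero => simp
  | succ m ih =>
    rw [Function.iterate_succ_apply', ih, Derivation.leibniz, Derivation.map_natCast, smul_zero, add_zero,
      Derivation.leibniz_pow, hy, nsmul_eq_mul, smul_eq_mul, smul_eq_mul, mul_one, Nat.descFactorial_succ,
      Nat.sub_sub, Nat.cast_mul]
    ring

theorem factorial_pred_cast (p : ℕ) [hp : Fact p.Prime] (h0 : (p : R) = 0) : ((p - 1).factorial : R) = -1 := by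
  have h : (p : ℕ) ∣ (p - 1).factorial + 1 := by
    rw [← ZMod.natCast_eq_zero_iff, Nat.cast_add, Nat.cast_one]
    rw [ZMod.wilsons_lemma]
    exact neg_add_cancel _
  obtain ⟨c, hc⟩ := h
  have := congrArg (fun t : ℕ => (t : R)) hc
  simp only [Nat.cast_add, Nat.cast_one, Nat.cast_mul, h0, zero_mul] at this
  exact eq_neg_of_add_eq_zero_left this

theorem der_pow_p (p : ℕ) (h0 : (p : R) = 0) (E : Derivation A R R) (g : R) : E (g ^ p) = 0 := by
  rw [Derivation.leibniz_pow, nsmul_eq_mul, h0, zero_mul]

/-- Integration in one variable. -/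
theorem exists_integral (p : ℕ) [hp : Fact p.Prime] (h0 : (p : R) = 0) (E : Derivation A R R) {y : R}
    (hy : E y = 1) (hEp : ∀ x, E^[p] x = 0) (f : R) :
    ∃ q h : R, f = q * y ^ (p - 1) + E h ∧ E q = 0 ∧
      ∀ F : Derivation A R R, F y = 0 → (∀ x, F (E x) = E (F x)) → F f = 0 → F q = 0 ∧ F h = 0 := by
  have hp1 : p - 1 + 1 = p := Nat.sub_add_cancel hp.out.one_le
  set q := -E^[p - 1] f with hq
  have hEq : E q = 0 := by
    rw [hq, map_neg, ← Function.iterate_succ_apply' E, Nat.succ_eq_add_one, hp1, hEp, neg_zero]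
  set f' := f - q * y ^ (p - 1) with hf'
  have hsub : ∀ (m : ℕ) (a b : R), E^[m] (a - b) = E^[m] a - E^[m] b := fun m => by
    induction m with
    | zero => intro a b; rfl
    | succ m ih => intro a b; rw [Function.iterate_succ_apply', ih, map_sub, ← Function.iterate_succ_apply' E,
        ← Function.iterate_succ_apply' E]
  have htop : E^[p - 1] f' = 0 := by
    rw [hsub, iterate_der_mul E hEq, iterate_der_pow E hy, Nat.descFactorial_self, Nat.sub_self, pow_zero, mul_one,
      factorial_pred_cast p h0, hq]
    ring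
  have hu : ∀ k : ℕ, k < p → IsUnit (k.factorial : R) := fun k hk => by
    have hco : Nat.Coprime p k.factorial :=
      (Nat.Prime.coprime_iff_not_dvd hp.out).2 fun h => absurd ((Nat.Prime.dvd_factorial hp.out).1 h) (not_le.2 hk)
    have := congrArg (fun t : ℤ => (t : R)) (Nat.gcd_eq_gcd_ab p k.factorial)
    rw [hco] at this
    simp only [Nat.cast_one, Int.cast_one, Int.cast_add, Int.cast_mul, Int.cast_natCast, h0, zero_mul, zero_add] at this
    exact IsUnit.of_mul_eq_one _ this.symm
  let c : ℕ → R := fun k => if hk : k < p then (-1) ^ k * ((hu k hk).unit⁻¹ : Rˣ) else 0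
  have hc : ∀ k, k + 1 < p → ((k + 1 : ℕ) : R) * c (k + 1) = -c k := fun k hk => by
    simp only [c, dif_pos hk, dif_pos (show k < p by omega)]
    refine (hu k (by omega)).mul_left_cancel ?_
    have e1 := (hu (k + 1) hk).mul_val_inv
    have e2 := (hu k (by omega)).mul_val_inv
    have e3 : ((k + 1).factorial : R) = ((k + 1 : ℕ) : R) * (k.factorial : R) := by
      rw [Nat.factorial_succ, Nat.cast_mul]
    linear_combination ((-1 : R) ^ (k + 1)) * e1 + ((-1 : R) ^ k) * e2 -
      ((-1 : R) ^ (k + 1)) * ((hu (k + 1) hk).unit⁻¹ : Rˣ) * e3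
  have hc0 : c 0 = 1 := by
    simp only [c, dif_pos hp.out.pos, pow_zero, one_mul]
    have := (hu 0 hp.out.pos).mul_val_inv
    simpa using this
  set h := -∑ k ∈ Finset.range (p - 1), c (k + 1) * y ^ (k + 1) * E^[k] f' with hh
  have hcd : ∀ (F : Derivation A R R) k, F (c k) = 0 := fun F k => by
    by_cases hk : k < p
    · simp only [c, dif_pos hk]
      have h1 : F ((k.factorial : R) * ((hu k hk).unit⁻¹ : Rˣ)) = 0 := by
        rw [(hu k hk).mul_val_inv, Derivation.map_one_eq_zero]
      rw [Derivation.leibniz, Derivation.map_natCast, smul_zero, add_zero, smul_eq_mul] at h1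
      rw [Derivation.leibniz, (hu k hk).mul_right_eq_zero.1 h1, Derivation.leibniz_pow, Derivation.map_neg,
        Derivation.map_one_eq_zero]
      simp
    · simp only [c, dif_neg hk, map_zero]
  have hEh : E h = f' := by
    have hterm : ∀ k ∈ Finset.range (p - 1), E (c (k + 1) * y ^ (k + 1) * E^[k] f') =
        c (k + 1) * y ^ (k + 1) * E^[k + 1] f' - c k * y ^ k * E^[k] f' := fun k hk => by
      have hk' : k + 1 < p := by
        have := Finset.mem_range.1 hk
        omega
      rw [Derivation.leibniz, Derivation.leibniz, hcd, Derivation.leibniz_pow, hy, Nat.add_sub_cancel,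
        Function.iterate_succ_apply' E]
      simp only [smul_eq_mul, nsmul_eq_mul, mul_zero, add_zero, mul_one]
      linear_combination (y ^ k * E^[k] f') * hc k hk'
    rw [hh, map_neg, map_sum, Finset.sum_congr rfl hterm,
      Finset.sum_range_sub (fun k => c k * y ^ k * E^[k] f'), htop, hc0]
    simp
  refine ⟨q, h, by rw [hEh, hf']; ring, hEq, fun F hFy hcomm hFf => ?_⟩
  have hFit : ∀ (m : ℕ) (x : R), F x = 0 → F (E^[m] x) = 0 := fun m => by
    induction m with
    | zero => intro x hx; exact hx
    | succ m ih => intro x hx; rw [Function.iterate_succ_apply', hcomm, ih x hx, map_zero]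
  have hFq : F q = 0 := by rw [hq, map_neg, hFit _ _ hFf, neg_zero]
  refine ⟨hFq, ?_⟩
  have hFf' : F f' = 0 := by
    rw [hf', map_sub, hFf, Derivation.leibniz, Derivation.leibniz_pow, hFy, hFq]
    simp
  rw [hh, map_neg, map_sum, Finset.sum_eq_zero, neg_zero]
  intro k _
  rw [Derivation.leibniz, Derivation.leibniz, hcd, Derivation.leibniz_pow, hFy, hFit _ _ hFf']
  simp

variable (A R) in
/-- Coordinates whose p-monomials form a basis over the p-th powers. -/
structure PCoord (p : ℕ) where
  n : ℕ
  y : Fin n → R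
  basis : Module.Basis (Fin n) R Ω[R⁄A]
  basis_eq : ∀ i, basis i = D A R (y i)
  exists_expand : ∀ f : R, ∃ g : (Fin n → Fin p) → R, f = ∑ α, g α ^ p * ∏ i, y i ^ (α i : ℕ)
  eq_zero_of_expand : ∀ g : (Fin n → Fin p) → R, ∑ α, g α ^ p * ∏ i, y i ^ (α i : ℕ) = 0 → g = 0

variable {p : ℕ} [hp : Fact p.Prime] (C : PCoord A R p)

/-- The partial derivations. -/
def PCoord.pd (i : Fin C.n) : Derivation A R R := (C.basis.coord i).compDer (D A R)

theorem PCoord.pd_y (i j : Fin C.n) : C.pd i (C.y j) = if j = i then 1 else 0 := by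
  classical
  show C.basis.coord i (D A R (C.y j)) = _
  rw [← C.basis_eq, Module.Basis.coord_apply, Module.Basis.repr_self, Finsupp.single_apply]

theorem PCoord.eq_zero_of_der (E : Derivation A R R) (h : ∀ i, E (C.y i) = 0) (x : R) : E x = 0 := by
  have hl : E.liftKaehlerDifferential = 0 := C.basis.ext fun i => by
    rw [C.basis_eq, Derivation.liftKaehlerDifferential_comp_D, h, LinearMap.zero_apply]
  rw [← E.liftKaehlerDifferential_comp_D, hl, LinearMap.zero_apply]

theorem PCoord.pd_comm (i j : Fin C.n) (x : R) : C.pd i (C.pd j x) = C.pd j (C.pd i x) := by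
  have h := C.eq_zero_of_der ⁅C.pd i, C.pd j⁆ (fun l => by
    rw [Derivation.commutator_apply, C.pd_y, C.pd_y]
    split_ifs <;> simp [Derivation.map_one_eq_zero]) x
  rw [Derivation.commutator_apply, sub_eq_zero] at h
  exact h

variable (h0 : (p : R) = 0)
include h0

theorem PCoord.iterate_pd (i : Fin C.n) (x : R) : (C.pd i)^[p] x = 0 := by
  classical
  obtain ⟨g, rfl⟩ := C.exists_expand x
  have hadd : ∀ (m : ℕ) (s : Finset (Fin C.n → Fin p)) (t : (Fin C.n → Fin p) → R),
      (C.pd i)^[m] (∑ α ∈ s, t α) = ∑ α ∈ s, (C.pd i)^[m] (t α) := fun m s t => by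
    induction m with
    | zero => rfl
    | succ m ih => simp only [Function.iterate_succ_apply', ih, map_sum]
  rw [hadd]
  refine Finset.sum_eq_zero fun α _ => ?_
  rw [← Finset.mul_prod_erase _ _ (Finset.mem_univ i), ← mul_assoc, mul_right_comm]
  rw [iterate_der_mul _ ?_, iterate_der_pow _ (by rw [C.pd_y, if_pos rfl]),
    Nat.descFactorial_of_lt (α i).2, Nat.cast_zero, zero_mul, mul_zero]
  rw [Derivation.leibniz, der_pow_p p h0, smul_zero, add_zero]
  have : C.pd i (∏ j ∈ Finset.univ.erase i, C.y j ^ (α j : ℕ)) = 0 := by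
    refine Finset.prod_induction _ (fun z => C.pd i z = 0) (fun a b ha hb => by
      rw [Derivation.leibniz, ha, hb, smul_zero, smul_zero, add_zero]) (Derivation.map_one_eq_zero _) fun j hj => ?_
    rw [Derivation.leibniz_pow, C.pd_y, if_neg (Finset.ne_of_mem_erase hj), smul_zero, smul_zero]
  rw [this, smul_zero]

theorem PCoord.exists_root_of_pd (f : R) (hf : ∀ i, C.pd i f = 0) : ∃ c, f = c ^ p := by
  classical
  obtain ⟨g, rfl⟩ := C.exists_expand f
  have hne : Fact p.Prime := hp
  haveI : NeZero p := ⟨hp.out.ne_zero⟩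
  refine ⟨g 0, ?_⟩
  rw [Finset.sum_eq_single (0 : Fin C.n → Fin p)]
  · simp
  · intro α _ hα
    obtain ⟨i, hi⟩ := Function.ne_iff.1 hα
    have hi' : (α i : ℕ) ≠ 0 := fun h => hi (Fin.ext (by simpa using h))
    have hterm : ∀ β : Fin C.n → Fin p, C.y i * C.pd i (g β ^ p * ∏ j, C.y j ^ (β j : ℕ)) =
        (((β i : ℕ) : R) * g β ^ p) * ∏ j, C.y j ^ (β j : ℕ) := fun β => by
      rw [← Finset.mul_prod_erase _ _ (Finset.mem_univ i), Derivation.leibniz, Derivation.leibniz,
        der_pow_p p h0, Derivation.leibniz_pow, C.pd_y, if_pos rfl]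
      have : C.pd i (∏ j ∈ Finset.univ.erase i, C.y j ^ (β j : ℕ)) = 0 := by
        refine Finset.prod_induction _ (fun z => C.pd i z = 0) (fun a b ha hb => by
          rw [Derivation.leibniz, ha, hb, smul_zero, smul_zero, add_zero]) (Derivation.map_one_eq_zero _)
          fun j hj => ?_
        rw [Derivation.leibniz_pow, C.pd_y, if_neg (Finset.ne_of_mem_erase hj), smul_zero, smul_zero]
      rw [this]
      simp only [smul_eq_mul, nsmul_eq_mul, mul_one, mul_zero, add_zero, zero_add]
      rcases Nat.eq_zero_or_pos (β i : ℕ) with hb | hb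
      · simp [hb]
      · have : C.y i * C.y i ^ ((β i : ℕ) - 1) = C.y i ^ (β i : ℕ) := by
          rw [← pow_succ', Nat.sub_add_cancel hb]
        linear_combination (g β ^ p * ((β i : ℕ) : R) * ∏ j ∈ Finset.univ.erase i, C.y j ^ (β j : ℕ)) * this
    have h1 : ∑ β, (((β i : ℕ) : R) * g β ^ p) * ∏ j, C.y j ^ (β j : ℕ) = 0 := by
      rw [← Finset.sum_congr rfl (fun β _ => hterm β), ← Finset.mul_sum, ← map_sum, hf i, mul_zero]
    obtain ⟨u, hu⟩ : ∃ u : R, u * ((α i : ℕ) : R) = 1 := by
      have hco : Nat.Coprime p (α i : ℕ) :=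
        (Nat.Prime.coprime_iff_not_dvd hp.out).2 fun h =>
          absurd (Nat.le_of_dvd (Nat.pos_of_ne_zero hi') h) (not_le.2 (α i).2)
      have := congrArg (fun t : ℤ => (t : R)) (Nat.gcd_eq_gcd_ab p (α i : ℕ))
      rw [hco] at this
      simp only [Nat.cast_one, Int.cast_one, Int.cast_add, Int.cast_mul, Int.cast_natCast, h0, zero_mul, zero_add] at this
      exact ⟨_, (mul_comm _ _).trans this.symm⟩
    have hroot : ∀ m : ℕ, (m : R) = ((m : R)) ^ p := fun m => by
      rcases subsingleton_or_nontrivial R with hS | hS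
      · exact Subsingleton.elim _ _
      haveI : CharP R p := (CharP.charP_iff_prime_eq_zero hp.out).2 h0
      rw [← frobenius_def, map_natCast]
    have h2 := congrFun (C.eq_zero_of_expand (fun β => ((β i : ℕ) : R) * g β) (by
      refine Eq.trans (Finset.sum_congr rfl fun β _ => ?_) h1
      rw [mul_pow, ← hroot])) α
    have h3 : g α = 0 := by
      rw [← one_mul (g α), ← hu, mul_assoc]
      exact (congrArg (u * ·) h2).trans (mul_zero u)
    rw [h3, zero_pow hp.out.ne_zero, zero_mul]
  · simp

include C in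
theorem PCoord.frobenius_inj (c : R) (hc : c ^ p = 0) : c = 0 := by
  classical
  haveI : NeZero p := ⟨hp.out.ne_zero⟩
  have h := congrFun (C.eq_zero_of_expand (Pi.single 0 c) (by
    rw [Finset.sum_eq_single (0 : Fin C.n → Fin p)]
    · simp [hc]
    · intro α _ hα
      simp [hα, zero_pow hp.out.ne_zero]
    · simp)) 0
  simpa using h

/-- Closed forms are exact plus the standard classes. -/
theorem PCoord.exists_normalForm (f : Fin C.n → R) (hf : ∀ i j, C.pd i (f j) = C.pd j (f i)) :
    ∃ (c : Fin C.n → R) (h : R), ∀ i, f i = c i ^ p * C.y i ^ (p - 1) + C.pd i h := by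
  classical
  have key : ∀ (r m : ℕ), m + r = C.n → ∀ f : Fin C.n → R, (∀ i j, C.pd i (f j) = C.pd j (f i)) →
      (∀ i : Fin C.n, (i : ℕ) < m → f i = 0) →
      ∃ (c : Fin C.n → R) (h : R), ∀ i, f i = c i ^ p * C.y i ^ (p - 1) + C.pd i h := by
    intro r
    induction r with
    | zero =>
      intro m hm f _ hz
      exact ⟨0, 0, fun i => by rw [hz i (by have := i.2; omega)]; simp [zero_pow hp.out.ne_zero]⟩
    | succ r ih =>
      intro m hm f hf hz
      let a : Fin C.n := ⟨m, by omega⟩
      have hya : C.pd a (C.y a) = 1 := by rw [C.pd_y, if_pos rfl]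
      obtain ⟨q, h, hfa, hq, hF⟩ := exists_integral p h0 (C.pd a) hya (C.iterate_pd h0 a) (f a)
      have hlow : ∀ i : Fin C.n, (i : ℕ) < m → C.pd i q = 0 ∧ C.pd i h = 0 := fun i hi => by
        refine hF (C.pd i) ?_ (fun x => C.pd_comm i a x) ?_
        · rw [C.pd_y, if_neg (fun e => by rw [← e] at hi; exact lt_irrefl _ hi)]
        · rw [hf i a, hz i hi, map_zero]
      have hqi : ∀ i, C.pd i q = 0 := fun i => by
        by_cases hia : i = a
        · rw [hia, hq]
        have hyi : C.pd i (C.y a ^ (p - 1)) = 0 := by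
          rw [Derivation.leibniz_pow, C.pd_y, if_neg (fun e => hia e.symm), smul_zero, smul_zero]
        have h1 : C.pd a (f i) = C.y a ^ (p - 1) * C.pd i q + C.pd a (C.pd i h) := by
          rw [← hf i a, hfa, map_add, Derivation.leibniz, hyi, smul_zero, zero_add, smul_eq_mul, C.pd_comm i a h]
        have h2 : C.pd a (f i - C.pd i h) = C.pd i q * C.y a ^ (p - 1) := by
          rw [map_sub, h1]; ring
        have h3 : C.pd a (C.pd i q) = 0 := by rw [C.pd_comm, hq, map_zero]
        have h4 := congrArg ((C.pd a)^[p - 1]) h2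
        rw [← Function.iterate_succ_apply (C.pd a), Nat.succ_eq_add_one, Nat.sub_add_cancel hp.out.one_le,
          C.iterate_pd h0, iterate_der_mul _ h3, iterate_der_pow _ hya, Nat.descFactorial_self, Nat.sub_self,
          pow_zero, mul_one, factorial_pred_cast p h0, mul_neg, mul_one] at h4
        exact neg_eq_zero.1 h4.symm
      obtain ⟨e, rfl⟩ := C.exists_root_of_pd h0 q hqi
      let f' : Fin C.n → R := fun i => f i - C.pd i h - (if i = a then e ^ p * C.y a ^ (p - 1) else 0)
      have hg : ∀ i j, C.pd i (if j = a then e ^ p * C.y a ^ (p - 1) else 0) =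
          if j = a ∧ i = a then C.pd a (e ^ p * C.y a ^ (p - 1)) else 0 := fun i j => by
        by_cases hj : j = a
        · by_cases hi : i = a
          · simp [hi, hj]
          · rw [if_pos hj, if_neg (fun h => hi h.2), Derivation.leibniz, der_pow_p p h0, Derivation.leibniz_pow,
              C.pd_y, if_neg (fun e => hi e.symm)]
            simp
        · simp [hj]
      obtain ⟨c, h', hc⟩ := ih (m + 1) (by omega) f' (fun i j => by
          simp only [f', map_sub, hg, hf i j, C.pd_comm i j h]
          by_cases hi : i = a <;> by_cases hj : j = a <;> simp [hi, hj])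
        (fun i hi => by
          rcases Nat.lt_succ_iff_lt_or_eq.1 hi with hi | hi
          · simp only [f', hz i hi, (hlow i hi).2, sub_zero,
              if_neg (show i ≠ a from fun e => by rw [e] at hi; exact lt_irrefl _ hi)]
          · obtain rfl : i = a := Fin.ext hi
            simp only [f', if_pos, hfa]
            ring)
      refine ⟨fun i => c i + if i = a then e else 0, h + h', fun i => ?_⟩
      have hi := hc i
      simp only [f'] at hi
      rw [map_add]
      by_cases hia : i = a
      · subst hia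
        simp only [↓reduceIte] at hi ⊢
        rcases subsingleton_or_nontrivial R with hS | hS
        · exact Subsingleton.elim _ _
        haveI : CharP R p := (CharP.charP_iff_prime_eq_zero hp.out).2 h0
        rw [add_pow_char]
        linear_combination hi
      · simp only [if_neg hia, sub_zero, add_zero] at hi ⊢
        linear_combination hi
  exact key C.n 0 (by omega) f hf fun i hi => absurd hi (Nat.not_lt_zero _)

/-- The standard classes are independent modulo exact forms. -/
theorem PCoord.eq_zero_of_exact (c : Fin C.n → R) (h : R) (hc : ∀ i, c i ^ p * C.y i ^ (p - 1) = C.pd i h)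
    (i : Fin C.n) : c i = 0 := by
  have hyi : C.pd i (C.y i) = 1 := by rw [C.pd_y, if_pos rfl]
  have h1 := congrArg ((C.pd i)^[p - 1]) (hc i)
  rw [iterate_der_mul _ (der_pow_p p h0 _ _), iterate_der_pow _ hyi, Nat.descFactorial_self, Nat.sub_self, pow_zero,
    mul_one, factorial_pred_cast p h0, ← Function.iterate_succ_apply (C.pd i), Nat.succ_eq_add_one,
    Nat.sub_add_cancel hp.out.one_le, C.iterate_pd h0, mul_neg, mul_one, neg_eq_zero] at h1
  exact C.frobenius_inj h0 _ h1

end Groth.L04.Cartier
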