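import Groth.Agent.L04.Cartier.Coords
import Groth.Prelude.Def_DeRham
import Mathlib.Algebra.CharP.Frobenius
import Mathlib.Data.Nat.Choose.Dvd
import Mathlib.LinearAlgebra.Matrix.Determinant.Basic

/-!
The Cartier operator in degree one of a smooth algebra over a perfect ring.
-/

set_option autoImplicit false
set_option linter.style.haveILetI false
set_option linter.unusedSectionVars false
set_option backward.isDefEq.respectTransparency false
set_option backward.isDefEq.respectTransparency.types false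

universe u

open KaehlerDifferential exteriorPower

noncomputable section

namespace Groth.L04.Cartier

variable (p : ℕ) [hp : Fact p.Prime] (A B : Type u) [CommRing A] [CommRing B] [Algebra A B] [CharP B p]

/-- One forms with scalars acting through Frobenius. -/
def FOm : Type u := Ω[B⁄A]

instance : AddCommGroup (FOm A B) := inferInstanceAs (AddCommGroup Ω[B⁄A])

/-- The Frobenius module structure. -/
@[instance_reducible]
def modF : Module B (FOm A B) := Module.compHom Ω[B⁄A] (frobenius B p)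

@[instance_reducible]
def modFA : Module A (FOm A B) := Module.compHom Ω[B⁄A] ((frobenius B p).comp (algebraMap A B))

attribute [local instance] modF modFA

local instance : IsScalarTower A B (FOm A B) :=
  letI := modF p A B; letI := modFA p A B
  IsScalarTower.of_algebraMap_smul fun _ _ => rfl

theorem D_pow_p_smul (b f : B) : D A B (b ^ p * f) = b ^ p • D A B f := by
  rw [Derivation.leibniz, Derivation.leibniz_pow, ← Nat.cast_smul_eq_nsmul B, CharP.cast_eq_zero, zero_smul,
    smul_zero, add_zero]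

/-- Exact forms. -/
def exact : letI := modF p A B; Submodule B (FOm A B) :=
  letI := modF p A B
  { carrier := Set.range (fun f : B => (show FOm A B from D A B f))
    add_mem' := fun {x y} ⟨f, hf⟩ ⟨g, hg⟩ => ⟨f + g, by
      rw [← hf, ← hg]; exact (D A B).map_add f g⟩
    zero_mem' := ⟨0, (D A B).map_zero⟩
    smul_mem' := fun b x ⟨f, hf⟩ => ⟨b ^ p * f, by
      rw [← hf]; exact (D_pow_p_smul p A B b f)⟩ }

/-- Forms modulo exact forms. -/
abbrev Q : Type u := letI := modF p A B; FOm A B ⧸ exact p A B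

/-- The class of a form. -/
def cls : Ω[B⁄A] →+ Q p A B where
  toFun ω := Submodule.Quotient.mk (show FOm A B from ω)
  map_zero' := rfl
  map_add' _ _ := rfl

theorem cls_pow_smul (b : B) (ω : Ω[B⁄A]) : cls p A B (b ^ p • ω) = b • cls p A B ω := rfl

theorem cls_eq_zero_iff (ω : Ω[B⁄A]) : cls p A B ω = 0 ↔ ∃ f, D A B f = ω :=
  (Submodule.Quotient.mk_eq_zero _).trans Iff.rfl

theorem cls_D (f : B) : cls p A B (D A B f) = 0 := (cls_eq_zero_iff p A B _).2 ⟨f, rfl⟩

theorem cls_surjective : Function.Surjective (cls p A B) := fun q => by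
  obtain ⟨x, rfl⟩ := Submodule.Quotient.mk_surjective _ q
  exact ⟨x, rfl⟩

theorem exists_D_eq_cocycle (f g : B) :
    ∃ P : B, (f + g) ^ (p - 1) • D A B (f + g) =
      f ^ (p - 1) • D A B f + g ^ (p - 1) • D A B g + D A B P := by
  obtain ⟨n, hn⟩ : ∃ n, p = n + 1 := ⟨p - 1, (Nat.sub_add_cancel hp.out.one_le).symm⟩
  have hpn : p - 1 = n := by omega
  rw [hpn]
  let c : ℕ → ℕ := fun k => p.choose k / p
  have hc : ∀ j, j < n → p * c (j + 1) = p.choose (j + 1) := fun j hj =>
    Nat.mul_div_cancel' (Nat.Prime.dvd_choose_self hp.out (Nat.succ_ne_zero j) (by omega))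
  have hc1 : ∀ j, j < n → c (j + 1) * (j + 1) = n.choose j := fun j hj => by
    refine Nat.eq_of_mul_eq_mul_left hp.out.pos ?_
    rw [← mul_assoc, hc j hj, hn]
    exact (Nat.add_one_mul_choose_eq n j).symm
  have hc2 : ∀ j, j < n → c (j + 1) * (n - j) = n.choose (j + 1) := fun j hj => by
    refine Nat.eq_of_mul_eq_mul_left hp.out.pos ?_
    rw [← mul_assoc, hc j hj, hn, ← Nat.choose_symm (by omega : j + 1 ≤ n + 1),
      ← Nat.choose_symm (by omega : j + 1 ≤ n)]
    obtain ⟨m, hm⟩ : ∃ m, n - j = m + 1 := ⟨n - j - 1, by omega⟩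
    rw [show n + 1 - (j + 1) = m + 1 by omega, show n - (j + 1) = m by omega, hm]
    exact (Nat.add_one_mul_choose_eq n m).symm
  refine ⟨∑ j ∈ Finset.range n, (c (j + 1) : B) * (f ^ (j + 1) * g ^ (n - j)), ?_⟩
  have hD : ∀ j ∈ Finset.range n, D A B ((c (j + 1) : B) * (f ^ (j + 1) * g ^ (n - j))) =
      (f ^ j * g ^ (n - j) * (n.choose j : B)) • D A B f +
        (f ^ (j + 1) * g ^ (n - (j + 1)) * (n.choose (j + 1) : B)) • D A B g := fun j hj => by
    have hj' := Finset.mem_range.1 hj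
    rw [← hc1 j hj', ← hc2 j hj', Derivation.leibniz, Derivation.map_natCast, smul_zero, add_zero,
      Derivation.leibniz, Derivation.leibniz_pow, Derivation.leibniz_pow, Nat.add_sub_cancel, Nat.sub_sub]
    simp only [← Nat.cast_smul_eq_nsmul B, smul_add, smul_smul, Nat.cast_mul]
    rw [add_comm]
    congr 2 <;> ring
  rw [map_sum, Finset.sum_congr rfl hD, Finset.sum_add_distrib, ← Finset.sum_smul, ← Finset.sum_smul]
  have hF : ∑ j ∈ Finset.range n, f ^ j * g ^ (n - j) * (n.choose j : B) = (f + g) ^ n - f ^ n := by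
    rw [add_pow f g n, Finset.sum_range_succ, Nat.sub_self, pow_zero, Nat.choose_self, Nat.cast_one]
    ring
  have hG : ∑ j ∈ Finset.range n, f ^ (j + 1) * g ^ (n - (j + 1)) * (n.choose (j + 1) : B) =
      (f + g) ^ n - g ^ n := by
    rw [add_pow f g n, Finset.sum_range_succ', pow_zero, Nat.choose_zero_right, Nat.cast_one, Nat.sub_zero]
    ring
  rw [hF, hG, sub_smul, sub_smul, map_add, smul_add]
  abel

/-- The class of `f^(p-1) df`. -/
def ψ : letI := modF p A B; letI := modFA p A B; Derivation A B (Q p A B) :=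
  letI := modF p A B; letI := modFA p A B
  { toFun := fun f => cls p A B (f ^ (p - 1) • D A B f)
    map_add' := fun f g => by
      obtain ⟨P, hP⟩ := exists_D_eq_cocycle p A B f g
      rw [hP, map_add, map_add, cls_D, add_zero]
    map_smul' := fun a f => by
      show cls p A B ((a • f) ^ (p - 1) • D A B (a • f)) = algebraMap A B a • cls p A B (f ^ (p - 1) • D A B f)
      rw [← cls_pow_smul, Derivation.map_smul, Algebra.smul_def, mul_pow, ← IsScalarTower.algebraMap_smul B a (D A B f),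
        smul_smul, smul_smul, mul_right_comm, ← pow_succ, Nat.sub_add_cancel hp.out.one_le]
    map_one_eq_zero' := by
      show cls p A B ((1 : B) ^ (p - 1) • D A B (1 : B)) = 0
      rw [Derivation.map_one_eq_zero, smul_zero, map_zero]
    leibniz' := fun f g => by
      show cls p A B ((f * g) ^ (p - 1) • D A B (f * g)) =
        f • cls p A B (g ^ (p - 1) • D A B g) + g • cls p A B (f ^ (p - 1) • D A B f)
      rw [← cls_pow_smul, ← cls_pow_smul, ← map_add, Derivation.leibniz, smul_add, smul_smul, smul_smul, smul_smul,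
        smul_smul, mul_pow]
      have h : ∀ x : B, x ^ (p - 1) * x = x ^ p := fun x => by
        rw [← pow_succ, Nat.sub_add_cancel hp.out.one_le]
      congr 3
      · rw [← h f]; ring
      · rw [← h g]; ring }

/-- The inverse Cartier operator. -/
def φ : letI := modF p A B; Ω[B⁄A] →ₗ[B] Q p A B :=
  letI := modF p A B; letI := modFA p A B
  (ψ p A B).liftKaehlerDifferential

theorem φ_D (f : B) : φ p A B (D A B f) = cls p A B (f ^ (p - 1) • D A B f) :=
  letI := modF p A B; letI := modFA p A B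
  (ψ p A B).liftKaehlerDifferential_comp_D f

theorem φ_smul (a : B) (η : Ω[B⁄A]) : φ p A B (a • η) = a • φ p A B η := (φ p A B).map_smul a η

theorem span_D_induction {P : Ω[B⁄A] → Prop} (hD : ∀ f, P (D A B f)) (h0 : P 0)
    (hadd : ∀ x y, P x → P y → P (x + y)) (hsmul : ∀ (a : B) x, P x → P (a • x)) (η : Ω[B⁄A]) : P η := by
  have h : η ∈ Submodule.span B (Set.range (D A B)) := by rw [span_range_derivation]; trivial
  induction h using Submodule.span_induction with
  | mem x hx => obtain ⟨f, rfl⟩ := hx; exact hD f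
  | zero => exact h0
  | add x y _ _ hx hy => exact hadd x y hx hy
  | smul a x _ hx => exact hsmul a x hx

section Closed

variable {A B} (d : ∀ q : ℕ, ↥(⋀[B]^q (Ω[B⁄A])) →ₗ[A] ↥(⋀[B]^(q + 1) (Ω[B⁄A])))
  (hd : DeRham.IsDiff (D A B) d)

theorem oneEquiv_symm_gen (a b : B) :
    (oneEquiv B Ω[B⁄A]).symm (a • D A B b) = DeRham.gen (D A B) 1 a ![b] := by
  rw [LinearEquiv.symm_apply_eq, DeRham.gen, map_smul, oneEquiv_ιMulti]
  simp

/-- A closed one form. -/
def Closed (ω : Ω[B⁄A]) : Prop := d 1 ((oneEquiv B Ω[B⁄A]).symm ω) = 0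

theorem Closed.add {ω ω' : Ω[B⁄A]} (h : Closed d ω) (h' : Closed d ω') : Closed d (ω + ω') := by
  unfold Closed at *
  rw [map_add, map_add, h, h', add_zero]

theorem Closed.sub {ω ω' : Ω[B⁄A]} (h : Closed d ω) (h' : Closed d ω') : Closed d (ω - ω') := by
  unfold Closed at *
  rw [map_sub, map_sub, h, h', sub_zero]

include hd in
theorem d_zero (b : B) : d 0 ((zeroEquiv B Ω[B⁄A]).symm b) = (oneEquiv B Ω[B⁄A]).symm (D A B b) := by
  have h1 : (zeroEquiv B Ω[B⁄A]).symm b = DeRham.gen (D A B) 0 b ![] := by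
    rw [LinearEquiv.symm_apply_eq, DeRham.gen, map_smul, zeroEquiv_ιMulti, smul_eq_mul, mul_one]
  rw [h1, hd.1 0 b ![]]
  refine (oneEquiv B Ω[B⁄A]).injective ?_
  rw [oneEquiv_ιMulti, LinearEquiv.apply_symm_apply]
  rfl

include hd in
theorem closed_D (b : B) : Closed d (D A B b) := by
  show d 1 _ = 0
  rw [← d_zero d hd]
  exact LinearMap.congr_fun (hd.2 0) _

include hd in
theorem closed_gen (a b : B) : Closed d (a ^ p • (b ^ (p - 1) • D A B b)) := by
  show d 1 _ = 0
  rw [smul_smul, oneEquiv_symm_gen, hd.1]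
  have h : D A B (a ^ p * b ^ (p - 1)) = (a ^ p * ((p - 1 : ℕ) * b ^ (p - 1 - 1)) : B) • D A B b := by
    rw [D_pow_p_smul, Derivation.leibniz_pow, ← Nat.cast_smul_eq_nsmul B, smul_smul, smul_smul]
    congr 1
    ring
  rw [h]
  let v : Fin 2 → Ω[B⁄A] := fun _ => D A B b
  have hv : (Fin.cons ((a ^ p * ((p - 1 : ℕ) * b ^ (p - 1 - 1)) : B) • D A B b)
      (fun i : Fin 1 => D A B (![b] i)) : Fin 2 → Ω[B⁄A]) =
      Function.update v 0 ((a ^ p * ((p - 1 : ℕ) * b ^ (p - 1 - 1)) : B) • v 0) := by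
    funext i
    fin_cases i <;> simp [v]
  rw [hv, AlternatingMap.map_update_smul, Function.update_eq_self,
    AlternatingMap.map_eq_zero_of_eq _ v (i := 0) (j := 1) rfl (by decide), smul_zero]

include hd in
theorem closed_pow_smul (a : B) {ω : Ω[B⁄A]} (η : Ω[B⁄A]) (_h : φ p A B η = cls p A B ω) :
    ∃ ω', φ p A B η = cls p A B ω' ∧ Closed d ω' ∧ Closed d (a ^ p • ω') := by
  suffices H : ∀ η, ∃ ω', φ p A B η = cls p A B ω' ∧ ∀ a : B, Closed d (a ^ p • ω') by
    obtain ⟨ω', h1, h2⟩ := H η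
    exact ⟨ω', h1, by simpa using h2 1, h2 a⟩
  intro η
  induction η using span_D_induction A B with
  | hD f => exact ⟨_, φ_D p A B f, fun a => closed_gen p d hd a f⟩
  | h0 => exact ⟨0, by simp, fun a => by simp [Closed]⟩
  | hadd x y hx hy =>
    obtain ⟨u, hu, hu'⟩ := hx
    obtain ⟨v, hv, hv'⟩ := hy
    exact ⟨u + v, by rw [map_add, map_add, hu, hv], fun a => by rw [smul_add]; exact (hu' a).add d (hv' a)⟩
  | hsmul c x hx =>
    obtain ⟨u, hu, hu'⟩ := hx
    refine ⟨c ^ p • u, by rw [φ_smul, hu, cls_pow_smul], fun a => ?_⟩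
    rw [smul_smul, ← mul_pow]
    exact hu' _

variable {L : Type u} [CommRing L] [Algebra A L] [Algebra B L] [IsScalarTower A B L]

theorem exists_wedge (E F : Ω[B⁄A] →ₗ[B] L) :
    ∃ Φ : ↥(⋀[B]^2 (Ω[B⁄A])) →ₗ[B] L, ∀ u : Fin 2 → Ω[B⁄A], Φ (ιMulti B 2 u) = E (u 0) * F (u 1) - F (u 0) * E (u 1) := by
  let m : Ω[B⁄A] [⋀^Fin 2]→ₗ[B] L :=
    { toFun := fun u => E (u 0) * F (u 1) - F (u 0) * E (u 1)
      map_update_add' := fun {_} u i x y => by
        fin_cases i <;> simp <;> ring
      map_update_smul' := fun {_} u i c x => by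
        fin_cases i <;> simp [Algebra.smul_def] <;> ring
      map_eq_zero_of_eq' := fun u i j h hij => by
        have : u 0 = u 1 := by
          fin_cases i <;> fin_cases j <;> simp_all
        rw [this]; ring }
  exact ⟨alternatingMapLinearEquiv m, fun u => alternatingMapLinearEquiv_apply_ιMulti m u⟩

include hd in
theorem coord_closed {q : ℕ} [Fact q.Prime] (C : PCoord A L q) {ω : Ω[B⁄A]} (hω : Closed d ω)
    (i j : Fin C.n) :
    C.pd i (C.basis.coord j (map A A B L ω)) = C.pd j (C.basis.coord i (map A A B L ω)) := by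
  let E : Fin C.n → (Ω[B⁄A] →ₗ[B] L) := fun i => ((C.basis.coord i).restrictScalars B).comp (map A A B L)
  obtain ⟨Φ, hΦ⟩ := exists_wedge (E i) (E j)
  have hE : ∀ (l : Fin C.n) (b : B), E l (D A B b) = C.pd l (algebraMap B L b) := fun l b => by
    show C.basis.coord l (map A A B L (D A B b)) = _
    rw [map_D]
    rfl
  suffices H : ∀ (η : Ω[B⁄A]) (c : B), Φ (d 1 ((oneEquiv B Ω[B⁄A]).symm (c • η))) =
      C.pd i (E j (c • η)) - C.pd j (E i (c • η)) by
    have h1 := H ω 1
    rw [one_smul, show d 1 ((oneEquiv B Ω[B⁄A]).symm ω) = 0 from hω, map_zero] at h1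
    exact sub_eq_zero.1 h1.symm
  intro η
  induction η using span_D_induction A B with
  | hD b =>
    intro c
    rw [oneEquiv_symm_gen, hd.1, hΦ, LinearMap.map_smul (E j), LinearMap.map_smul (E i), Algebra.smul_def, Algebra.smul_def, hE, hE,
      Derivation.leibniz, Derivation.leibniz, C.pd_comm i j]
    simp only [Fin.cons_zero, Fin.cons_one, Matrix.cons_val_fin_one, hE, smul_eq_mul]
    ring
  | h0 => intro c; simp
  | hadd x y hx hy =>
    intro c
    simp only [smul_add, map_add, hx c, hy c]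
    ring
  | hsmul a x hx => intro c; rw [smul_smul]; exact hx (c * a)

end Closed

section Local

variable {p A} {R : Type u} [CommRing R] [Algebra A R] [CharP R p] (C : PCoord A R p)

theorem basis_sum (ω : Ω[R⁄A]) : ω = ∑ i, C.basis.coord i ω • D A R (C.y i) := by
  conv_lhs => rw [← C.basis.sum_repr ω]
  exact Finset.sum_congr rfl fun i _ => by rw [C.basis_eq]; rfl

theorem φ_coord (η : Ω[R⁄A]) :
    φ p A R η = cls p A R (∑ i, (C.basis.coord i η ^ p * C.y i ^ (p - 1)) • D A R (C.y i)) := by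
  conv_lhs => rw [basis_sum C η]
  rw [map_sum, map_sum]
  refine Finset.sum_congr rfl fun i _ => ?_
  rw [φ_smul, φ_D, ← cls_pow_smul, smul_smul]

theorem coord_sum (c : Fin C.n → R) (i : Fin C.n) :
    C.basis.coord i (∑ l, c l • D A R (C.y l)) = c i := by
  classical
  rw [← Finset.sum_congr rfl (fun l _ => congrArg (c l • ·) (C.basis_eq l)), Module.Basis.coord_apply,
    Module.Basis.repr_sum_self]

include C in
theorem local_injective (η : Ω[R⁄A]) (h : φ p A R η = 0) : η = 0 := by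
  rw [φ_coord C, cls_eq_zero_iff] at h
  obtain ⟨f, hf⟩ := h
  rw [basis_sum C η]
  refine Finset.sum_eq_zero fun i _ => ?_
  rw [C.eq_zero_of_exact (CharP.cast_eq_zero R p) (fun l => C.basis.coord l η) f (fun l => ?_) i, zero_smul]
  rw [← coord_sum C (fun l => C.basis.coord l η ^ p * C.y l ^ (p - 1)) l, ← hf]
  rfl

theorem local_surjective (ω : Ω[R⁄A])
    (h : ∀ i j, C.pd i (C.basis.coord j ω) = C.pd j (C.basis.coord i ω)) : ∃ η, φ p A R η = cls p A R ω := by
  obtain ⟨c, f, hc⟩ := C.exists_normalForm (CharP.cast_eq_zero R p) (fun l => C.basis.coord l ω) h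
  refine ⟨∑ l, c l • D A R (C.y l), ?_⟩
  rw [φ_coord C]
  simp only [coord_sum]
  have hω : ω = (∑ i, (c i ^ p * C.y i ^ (p - 1)) • D A R (C.y i)) + D A R f := by
    conv_lhs => rw [basis_sum C ω]
    conv_rhs => arg 2; rw [basis_sum C (D A R f)]
    rw [← Finset.sum_add_distrib]
    exact Finset.sum_congr rfl fun i _ => by rw [hc i, add_smul]; rfl
  rw [hω, map_add, cls_D, add_zero]

end Local

section Localize

variable [CharP A p] [PerfectRing A p] [Algebra.Smooth A B]

theorem exists_rep_map (L : Type u) [CommRing L] [Algebra A L] [Algebra B L] [IsScalarTower A B L] [CharP L p]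
    (η : Ω[B⁄A]) :
    ∃ ω, φ p A B η = cls p A B ω ∧ φ p A L (map A A B L η) = cls p A L (map A A B L ω) := by
  induction η using span_D_induction A B with
  | hD f =>
    refine ⟨_, φ_D p A B f, ?_⟩
    rw [map_D, φ_D, LinearMap.map_smul, map_D, ← IsScalarTower.algebraMap_smul L (f ^ (p - 1)), map_pow]
  | h0 => exact ⟨0, by simp, by simp⟩
  | hadd x y hx hy =>
    obtain ⟨u, hu, hu'⟩ := hx
    obtain ⟨v, hv, hv'⟩ := hy
    exact ⟨u + v, by rw [map_add, map_add, hu, hv], by simp only [map_add, hu', hv']⟩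
  | hsmul a x hx =>
    obtain ⟨u, hu, hu'⟩ := hx
    refine ⟨a ^ p • u, by rw [φ_smul, hu, cls_pow_smul], ?_⟩
    rw [LinearMap.map_smul, LinearMap.map_smul, ← IsScalarTower.algebraMap_smul L a, φ_smul, hu', ← cls_pow_smul,
      ← IsScalarTower.algebraMap_smul L (a ^ p), map_pow]

theorem map_of_cls_eq (L : Type u) [CommRing L] [Algebra A L] [Algebra B L] [IsScalarTower A B L] [CharP L p]
    {ω ω' : Ω[B⁄A]} (h : cls p A B ω = cls p A B ω') :
    cls p A L (map A A B L ω) = cls p A L (map A A B L ω') := by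
  rw [← sub_eq_zero, ← map_sub, cls_eq_zero_iff] at h
  obtain ⟨f, hf⟩ := h
  rw [← sub_eq_zero, ← map_sub, ← map_sub, ← hf, map_D, cls_D]

theorem charP_of_nontrivial (L : Type u) [CommRing L] [Algebra B L] [Nontrivial L] : CharP L p :=
  (CharP.charP_iff_prime_eq_zero hp.out).2 (by
    rw [← map_natCast (algebraMap B L), CharP.cast_eq_zero, map_zero])

theorem injective_φ : Function.Injective (φ p A B) := by
  rw [injective_iff_map_eq_zero]
  intro η hη
  obtain ⟨s, hs, hsm⟩ := Algebra.Smooth.exists_span_eq_top_isStandardSmooth (R := A) (S := B)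
  let J : Ideal B := LinearMap.ker (LinearMap.toSpanSingleton B Ω[B⁄A] η)
  suffices hJ : J = ⊤ by
    have h1 : (1 : B) ∈ J := hJ ▸ Submodule.mem_top
    simpa [J] using h1
  rw [← Ideal.radical_eq_top, eq_top_iff, ← hs, Ideal.span_le]
  intro g hg
  let L := Localization.Away g
  suffices h0 : map A A B L η = 0 by
    obtain ⟨⟨_, n, rfl⟩, hc⟩ :=
      (IsLocalizedModule.eq_zero_iff (Submonoid.powers g) (map A A B L)).1 h0
    exact ⟨n, by simpa [J, Submonoid.smul_def] using hc⟩
  rcases subsingleton_or_nontrivial L with hL | hL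
  · haveI := Module.subsingleton L Ω[L⁄A]
    exact Subsingleton.elim _ _
  haveI := charP_of_nontrivial p B L
  haveI : Algebra.IsStandardSmooth A L := hsm g hg
  obtain ⟨C⟩ := nonempty_pCoord p A L
  obtain ⟨ω, hω, hω'⟩ := exists_rep_map p A B L η
  refine local_injective C _ ?_
  rw [hω', map_of_cls_eq p A B L (ω' := 0) (by rw [map_zero, ← hω, hη]), map_zero, map_zero]

variable (d : ∀ q : ℕ, ↥(⋀[B]^q (Ω[B⁄A])) →ₗ[A] ↥(⋀[B]^(q + 1) (Ω[B⁄A])))
  (hd : DeRham.IsDiff (D A B) d)

include hd in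
theorem exists_preimage {ω : Ω[B⁄A]} (hω : Closed d ω) : ∃ η, φ p A B η = cls p A B ω := by
  letI := modF p A B
  obtain ⟨s, hs, hsm⟩ := Algebra.Smooth.exists_span_eq_top_isStandardSmooth (R := A) (S := B)
  let J : Ideal B := (LinearMap.range (φ p A B)).comap (LinearMap.toSpanSingleton B (Q p A B) (cls p A B ω))
  suffices hJ : J = ⊤ by
    have h1 : (1 : B) ∈ J := hJ ▸ Submodule.mem_top
    simpa [J] using h1
  rw [← Ideal.radical_eq_top, eq_top_iff, ← hs, Ideal.span_le]
  intro g hg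
  let L := Localization.Away g
  suffices h : ∃ (N : ℕ) (η' ω₁ : Ω[B⁄A]), φ p A B η' = cls p A B ω₁ ∧
      ∃ f : B, g ^ (p * N) • ω = ω₁ + D A B f by
    obtain ⟨N, η', ω₁, h1, f, h2⟩ := h
    refine ⟨N, η', ?_⟩
    show φ p A B η' = g ^ N • cls p A B ω
    rw [← cls_pow_smul, ← pow_mul, mul_comm N p, h2, map_add, cls_D, add_zero, h1]
  rcases subsingleton_or_nontrivial L with hL | hL
  · haveI := Module.subsingleton L Ω[L⁄A]
    obtain ⟨⟨_, n, rfl⟩, hc⟩ :=
      (IsLocalizedModule.eq_zero_iff (Submonoid.powers g) (map A A B L)).1 (Subsingleton.elim (map A A B L ω) 0)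
    refine ⟨n, 0, 0, by simp, 0, ?_⟩
    rw [map_zero, add_zero, ← Nat.sub_add_cancel (Nat.le_mul_of_pos_left n hp.out.pos), pow_add, mul_smul]
    simp only [Submonoid.smul_def] at hc
    rw [hc, smul_zero]
  haveI := charP_of_nontrivial p B L
  haveI : Algebra.IsStandardSmooth A L := hsm g hg
  obtain ⟨C⟩ := nonempty_pCoord p A L
  obtain ⟨ηL, hηL⟩ := local_surjective C (map A A B L ω) (fun i j => coord_closed d hd C hω i j)
  obtain ⟨⟨η, _, k, rfl⟩, hη⟩ := IsLocalizedModule.surj (Submonoid.powers g) (map A A B L) ηL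
  simp only [Submonoid.smul_def] at hη
  obtain ⟨ω₁, hω₁, hω₁'⟩ := exists_rep_map p A B L η
  have hk : cls p A L (map A A B L (g ^ (p * k) • ω)) = cls p A L (map A A B L ω₁) := by
    rw [← hω₁', ← hη, ← IsScalarTower.algebraMap_smul L (g ^ k) ηL, φ_smul, hηL, ← cls_pow_smul,
      LinearMap.map_smul, ← IsScalarTower.algebraMap_smul L (g ^ (p * k)), map_pow, map_pow, ← pow_mul,
      mul_comm k p]
  rw [← sub_eq_zero, ← map_sub, ← map_sub, cls_eq_zero_iff] at hk
  obtain ⟨fL, hfL⟩ := hk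
  obtain ⟨⟨f, _, m, rfl⟩, hf'⟩ := IsLocalization.surj (Submonoid.powers g) fL
  have hf : fL * algebraMap B L g ^ m = algebraMap B L f := by rw [← map_pow]; exact hf'
  have hmap : map A A B L (g ^ (p * m) • (g ^ (p * k) • ω - ω₁) - D A B (g ^ ((p - 1) * m) * f)) = 0 := by
    rw [map_sub, map_D, LinearMap.map_smul, ← hfL, map_mul, ← hf, ← IsScalarTower.algebraMap_smul L (g ^ (p * m)),
      map_pow, map_pow, sub_eq_zero]
    have e : (algebraMap B L g) ^ ((p - 1) * m) * (fL * algebraMap B L g ^ m) =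
        ((algebraMap B L g) ^ m) ^ p * fL := by
      rw [← pow_mul, mul_comm fL, ← mul_assoc, ← pow_add]
      congr 2
      rw [mul_comm m p, Nat.sub_mul, one_mul, Nat.sub_add_cancel (Nat.le_mul_of_pos_left m hp.out.pos)]
    rw [e, D_pow_p_smul p A L, ← pow_mul, mul_comm m p]
  obtain ⟨⟨_, l, rfl⟩, hl⟩ := (IsLocalizedModule.eq_zero_iff (Submonoid.powers g) (map A A B L)).1 hmap
  simp only [Submonoid.smul_def] at hl
  refine ⟨l + m + k, g ^ (l + m) • η, g ^ (p * (l + m)) • ω₁, ?_, (g ^ l) ^ p * (g ^ ((p - 1) * m) * f), ?_⟩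
  · rw [φ_smul, hω₁, ← cls_pow_smul, ← pow_mul, mul_comm (l + m) p]
  · have hl' : g ^ (p * l) • (g ^ (p * m) • (g ^ (p * k) • ω - ω₁) - D A B (g ^ ((p - 1) * m) * f)) = 0 := by
      rw [← Nat.sub_add_cancel (Nat.le_mul_of_pos_left l hp.out.pos), pow_add, mul_smul, hl, smul_zero]
    rw [D_pow_p_smul, ← pow_mul, mul_comm l p, ← sub_eq_zero, ← hl', Nat.mul_add, Nat.mul_add, pow_add, pow_add]
    simp only [smul_sub, smul_smul, mul_assoc]
    abel_nf

include hd in
theorem existsUnique_cartier :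
    ∃! C : ↥(DeRham.cocycles d 1) →+ ↥(⋀[B]^1 (Ω[B⁄A])),
      (∀ (f : B) (ω ω' : ↥(DeRham.cocycles d 1)),
          (ω' : ↥(⋀[B]^1 (Ω[B⁄A]))) = f ^ p • (ω : ↥(⋀[B]^1 (Ω[B⁄A]))) → C ω' = f • C ω) ∧
      (∀ ω : ↥(DeRham.cocycles d 1), C ω = 0 ↔ (ω : ↥(⋀[B]^1 (Ω[B⁄A]))) ∈ DeRham.coboundaries d 1) ∧
      (∀ (f : B) (ω : ↥(DeRham.cocycles d 1)),
          (ω : ↥(⋀[B]^1 (Ω[B⁄A]))) = f ^ (p - 1) • d 0 ((exteriorPower.zeroEquiv B (Ω[B⁄A])).symm f) →
            C ω = d 0 ((exteriorPower.zeroEquiv B (Ω[B⁄A])).symm f)) := by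
  letI := modF p A B
  let o := oneEquiv B Ω[B⁄A]
  have hclosed : ∀ ω : ↥(DeRham.cocycles d 1), Closed d (o ω.1) := fun ω => by
    show d 1 (o.symm (o ω.1)) = 0
    rw [LinearEquiv.symm_apply_apply]
    exact LinearMap.mem_ker.1 ω.2
  choose η hη using fun ω => exists_preimage p A B d hd (hclosed ω)
  have huniq : ∀ ω x, φ p A B x = cls p A B (o (ω : ↥(DeRham.cocycles d 1)).1) → η ω = x := fun ω x hx =>
    injective_φ p A B ((hη ω).trans hx.symm)
  let C : ↥(DeRham.cocycles d 1) →+ ↥(⋀[B]^1 (Ω[B⁄A])) :=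
    { toFun := fun ω => o.symm (η ω)
      map_zero' := by
        show o.symm (η 0) = 0
        rw [huniq 0 0 (by simp), map_zero]
      map_add' := fun ω ω' => by
        show o.symm (η (ω + ω')) = o.symm (η ω) + o.symm (η ω')
        rw [huniq (ω + ω') (η ω + η ω') (by simp [map_add, hη]), map_add] }
  have hcob : ∀ x : ↥(⋀[B]^1 (Ω[B⁄A])), x ∈ DeRham.coboundaries d 1 ↔ cls p A B (o x) = 0 := fun x => by
    rw [cls_eq_zero_iff]
    constructor
    · rintro ⟨y, rfl⟩
      refine ⟨zeroEquiv B Ω[B⁄A] y, ?_⟩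
      conv_rhs => rw [← (zeroEquiv B Ω[B⁄A]).symm_apply_apply y]
      rw [d_zero d hd, LinearEquiv.apply_symm_apply]
    · rintro ⟨f, hf⟩
      exact ⟨(zeroEquiv B Ω[B⁄A]).symm f, by rw [d_zero d hd, hf, LinearEquiv.symm_apply_apply]⟩
  refine ⟨C, ⟨fun f ω ω' h => ?_, fun ω => ?_, fun f ω h => ?_⟩, fun C' hC' => ?_⟩
  · show o.symm (η ω') = f • o.symm (η ω)
    rw [huniq ω' (f • η ω) (by rw [φ_smul, hη, h, map_smul, cls_pow_smul]), map_smul]
  · show o.symm (η ω) = 0 ↔ _
    rw [hcob, ← hη, LinearEquiv.map_eq_zero_iff]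
    constructor
    · intro h; rw [h, map_zero]
    · intro h; exact injective_φ p A B (h.trans (map_zero _).symm)
  · show o.symm (η ω) = _
    rw [d_zero d hd, huniq ω (D A B f) (by rw [φ_D, h, d_zero d hd, map_smul o, LinearEquiv.apply_symm_apply])]
  obtain ⟨h1, h2, h3⟩ := hC'
  refine AddMonoidHom.ext fun ω => ?_
  show C' ω = o.symm (η ω)
  suffices H : ∀ (x : Ω[B⁄A]) (a : B), ∃ (u : Ω[B⁄A]) (hu : Closed d u),
      φ p A B (a • x) = cls p A B u ∧ C' ⟨o.symm u, hu⟩ = o.symm (a • x) by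
    obtain ⟨u, hu, hu1, hu2⟩ := H (η ω) 1
    rw [one_smul] at hu1 hu2
    rw [← hu2]
    refine sub_eq_zero.1 ?_
    rw [← map_sub, h2, hcob]
    show cls p A B (o (ω.1 - o.symm u)) = 0
    rw [map_sub, LinearEquiv.apply_symm_apply, map_sub, ← hη, hu1, sub_self]
  intro x
  induction x using span_D_induction A B with
  | hD b =>
    intro a
    refine ⟨_, closed_gen p d hd a b, by rw [φ_smul, φ_D, cls_pow_smul], ?_⟩
    have hb : Closed d (b ^ (p - 1) • D A B b) := by simpa using closed_gen p d hd 1 b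
    have e1 := h1 a ⟨_, hb⟩ ⟨_, closed_gen p d hd a b⟩ (map_smul o.symm _ _)
    rw [e1, h3 b ⟨_, hb⟩ (by rw [d_zero d hd]; exact map_smul o.symm _ _), d_zero d hd, ← map_smul]
  | h0 =>
    intro a
    refine ⟨0, by simp [Closed], by simp, ?_⟩
    refine ((h2 _).2 ?_).trans (by rw [smul_zero, map_zero])
    show o.symm 0 ∈ DeRham.coboundaries d 1
    rw [map_zero]; exact zero_mem _
  | hadd x y hx hy =>
    intro a
    obtain ⟨u, hu, hu1, hu2⟩ := hx a
    obtain ⟨v, hv, hv1, hv2⟩ := hy a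
    refine ⟨u + v, hu.add d hv, by rw [smul_add, map_add, map_add, hu1, hv1], ?_⟩
    rw [smul_add, map_add o.symm (a • x) (a • y), ← hu2, ← hv2, ← map_add]
    exact congrArg C' (Subtype.ext (map_add o.symm u v))
  | hsmul c x hx => intro a; rw [smul_smul]; exact hx (a * c)

end Localize

end Groth.L04.Cartier
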